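import Cfsg.Agent.H864.RC.Def3

set_option autoImplicit false
open Cfsg

namespace Cfsg.Agent.H510.Tri3

open Module QuadraticMap MulAction
open Cfsg.Agent.LieClassical.OrthCore Cfsg.Agent.LieClassical.OrthTrans
open Cfsg.Agent.LieClassical.OrthSimple Cfsg.Agent.ClassicalGeometry.OrthSemi
open Cfsg.Agent.ClassicalGeometry.OrthAut1 Cfsg.Agent.H106.RC Cfsg.Agent.H93.RC Cfsg.Agent.H566.RC
open Cfsg.Agent.LieClassical.QuadForms Cfsg.Agent.ClassicalGeometry.TrialityOct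
open Cfsg.Agent.ClassicalGeometry.Triality Cfsg.Agent.ClassicalGeometry.TrialitySpaces
open Cfsg.Agent.H198.TriBase Cfsg.Agent.H198.TriAut Cfsg.Agent.H206.Balance Cfsg.Agent.H198.TriDia
open Cfsg.Agent.H198.TwComp Cfsg.Agent.H198 Cfsg.Agent.H864.RC

variable {F : Type} [Field F]

/-- rotations `ρ k` of order `l` of four orthogonal anisotropic planes `P k`, with the same trace `τ` -/
structure Rot (P : Fin 4 → Submodule F (V8 F)) (l : ℕ) (τ : F) (ρ : Fin 4 → ↥(E (plusForm 4 F))) : Prop where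
  pow : ∀ k, ρ k ^ l = 1
  triv : ∀ k j, j ≠ k → ∀ v ∈ P j, (ρ k : V8 F ≃ₗ[F] V8 F) v = v
  inv : ∀ k, ∀ v ∈ P k, (ρ k : V8 F ≃ₗ[F] V8 F) v ∈ P k
  ne : ∀ k, ∀ v ∈ P k, ∀ a : F, (ρ k : V8 F ≃ₗ[F] V8 F) v = a • v → v = 0
  tr : ∀ k, ∀ v ∈ P k, (ρ k : V8 F ≃ₗ[F] V8 F) ((ρ k : V8 F ≃ₗ[F] V8 F) v) + v = τ • (ρ k : V8 F ≃ₗ[F] V8 F) v
  /-- every isometry of order dividing `l` preserving the planes is a power of `ρ k` on `P k` -/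
  gen : ∀ c ∈ O (plusForm 4 F), c ^ l = 1 → (∀ j, ∀ v ∈ P j, c v ∈ P j) → ∀ k, ∃ i : ℕ, ∀ v ∈ P k,
    c v = ((ρ k ^ i : ↥(E (plusForm 4 F))) : V8 F ≃ₗ[F] V8 F) v
  /-- `ρ k` commutes on `P k` with the isometries which are rotations (or `±1`) on `P k` -/
  comm : ∀ k (t : F) (n : ℕ), (n : F) ≠ 0 → ∀ c ∈ O (plusForm 4 F), c ^ n = 1 → (∀ v ∈ P k, c v ∈ P k) →
    (∀ v ∈ P k, c (c v) + v = t • c v) →
    ∀ v ∈ P k, c ((ρ k : V8 F ≃ₗ[F] V8 F) v) = (ρ k : V8 F ≃ₗ[F] V8 F) (c v)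

end Cfsg.Agent.H510.Tri3
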