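import Cfsg.Agent.H510.Tri3.Quad
import Cfsg.Agent.H510.Tri3.RotDef
import Cfsg.Agent.H253.RC.T3Tools
import Cfsg.Agent.H256.RC.ZBase
import Cfsg.Agent.H452.RC.FMPa

/-!
# S3510, triality type iii: four anisotropic planes, the end (helper510)
-/

set_option autoImplicit false
set_option linter.unusedSectionVars false
open Cfsg

namespace Cfsg.Agent.H510.Tri3

open Module QuadraticMap MulAction
open Cfsg.Agent.LieClassical.OrthCore Cfsg.Agent.LieClassical.OrthTrans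
open Cfsg.Agent.LieClassical.OrthSimple Cfsg.Agent.ClassicalGeometry.OrthSemi
open Cfsg.Agent.ClassicalGeometry.OrthAut1 Cfsg.Agent.H106.RC Cfsg.Agent.H93.RC Cfsg.Agent.H566.RC
open Cfsg.Agent.LieClassical.QuadForms Cfsg.Agent.ClassicalGeometry.TrialityOct
open Cfsg.Agent.ClassicalGeometry.Triality Cfsg.Agent.ClassicalGeometry.TrialitySpaces
open Cfsg.Agent.H198.TriBase Cfsg.Agent.H198.TriAut Cfsg.Agent.H206.Balance Cfsg.Agent.H198.TriDia
open Cfsg.Agent.H198.TwComp Cfsg.Agent.H198 Cfsg.Agent.H864.RC Cfsg.Agent.H452.RC.FMP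

variable {F : Type} [Field F]

/-- a suitable odd prime -/
theorem exists_odd_prime {q q0 : ℕ} (h0 : 2 ≤ q0) (hq : q = q0 ^ 3) : ∃ l : ℕ, l.Prime ∧ l ≠ 2 ∧ l ∣ q + 1 ∧ l.Coprime q := by
  have h1 : q0 ^ 2 - q0 + 1 ≠ 1 := by
    have : q0 < q0 ^ 2 := by nlinarith
    omega
  have hodd : ¬ 2 ∣ q0 ^ 2 - q0 + 1 := by
    have h2 : 2 ∣ q0 ^ 2 - q0 := by
      have h3 : q0 ^ 2 - q0 = q0 * (q0 - 1) := by
        rw [Nat.mul_sub, mul_one, pow_two]
      rw [h3]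
      rcases Nat.even_or_odd q0 with he | ho
      · exact dvd_mul_of_dvd_left he.two_dvd _
      · obtain ⟨k, hk⟩ := ho
        exact dvd_mul_of_dvd_right ⟨k, by omega⟩ _
    omega
  have hdvd : q0 ^ 2 - q0 + 1 ∣ q + 1 := by
    refine ⟨q0 + 1, ?_⟩
    have hle : q0 ≤ q0 ^ 2 := by nlinarith
    obtain ⟨a, ha⟩ : ∃ a, q0 ^ 2 = q0 + a := ⟨q0 ^ 2 - q0, by omega⟩
    have h3 : q0 ^ 2 - q0 + 1 = a + 1 := by omega
    rw [h3, hq]
    have h4 : q0 ^ 3 = q0 * q0 ^ 2 := by ring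
    have h5 : q0 * q0 = q0 + a := by rw [← ha]; ring
    rw [h4, ha]
    nlinarith
  obtain ⟨l, hl, hld⟩ := Nat.exists_prime_and_dvd h1
  refine ⟨l, hl, ?_, hld.trans hdvd, ?_⟩
  · rintro rfl
    exact hodd hld
  · rw [hl.coprime_iff_not_dvd]
    intro h3
    have h4 := (Nat.dvd_add_right h3).1 (hld.trans hdvd)
    exact hl.one_lt.ne' (Nat.dvd_one.1 h4)

variable {G Ω ι : Type} [Group G] [MulAction G Ω] {N : Subgroup G} {hG : Good (plusForm 4 F)}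
  {κ : P8 F →* G} {s : F ≃+* F} {x₁ : G} {x : ι → G} {r : ι → ℕ} {g : ι → (V8 F ≃ₗ[F] V8 F)}

theorem natCast_ne [Finite F] {p : ℕ} [CharP F p] (h : T3 hG N κ s Ω x₁ x r g) (hrp : ∀ i, r i ≠ p) (i : ι) :
    (r i : F) ≠ 0 := by
  intro h1
  have h2 := (CharP.cast_eq_zero_iff F p (r i)).1 h1
  have hp : p.Prime := CharP.char_is_prime F p
  exact hrp i ((Nat.prime_dvd_prime_iff_eq hp (h.prime i)).1 h2).symm

/-- the end of `dead_G3` -/
theorem dead_G3_of [Finite F] [Finite G] [Finite ι] [Nonempty Ω] {p : ℕ} [CharP F p] (h : T3 hG N κ s Ω x₁ x r g)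
    (hIH : IH (Nat.card N)) (hrp : ∀ i, r i ≠ p) {P : Fin 4 → Submodule F (V8 F)} (hP : G3 g P)
    (hrot : ∀ k i, ∃ t : F, ∀ v ∈ P k, g i (g i v) + v = t • g i v) {l : ℕ} (hl : l.Prime) (hlp : l ≠ p)
    {ρ : Fin 4 → ↥(E (plusForm 4 F))} {τ : F} (hρ : Rot P l τ ρ) {y : ↥(E (plusForm 4 F))} (hyl : y ^ l = 1)
    (hl2 : l ≠ 2) (hy1 : y ≠ 1) (hyD : up κ y ∈ comC (CN N x) x₁)
    (hyg : ∀ i, (y : V8 F ≃ₗ[F] V8 F) * g i = g i * y) (n : ℕ)
    (hn : ∀ v ∈ P 0 ⊔ P 1, (y : V8 F ≃ₗ[F] V8 F) v = (((ρ 0 * ρ 1) ^ n : ↥(E (plusForm 4 F))) : V8 F ≃ₗ[F] V8 F) v) :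
    False := by
  obtain ⟨q0, h0, hq, -, -, -⟩ := H256.RC.BQ h.cube h.ne
  have h8 : 8 ≤ Nat.card F := by
    rw [hq]
    calc 8 = 2 ^ 3 := by norm_num
      _ ≤ q0 ^ 3 := Nat.pow_le_pow_left h0 3
  have h9 : Nat.card F ≠ 9 := by
    rw [hq]
    intro h9
    rcases Nat.lt_or_ge q0 3 with h3 | h3
    · have : q0 = 2 := by omega
      rw [this] at h9
      norm_num at h9
    · have : 3 ^ 3 ≤ q0 ^ 3 := Nat.pow_le_pow_left h3 3
      omega
  let gE : ι → ↥(E (plusForm 4 F)) := fun i => ⟨g i, (h.mem i).1⟩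
  have hx : ∀ i, x i = up κ (gE i) := fun i => h.x_eq i
  have hPF : PF (fun i => up κ (gE i)) r := by
    have h1 := h.pf
    have h2 : x = fun i => up κ (gE i) := funext hx
    rwa [h2] at h1
  have hyup : up κ y ≠ 1 := by
    intro h1
    have h2 : y ∈ Subgroup.center ↥(E (plusForm 4 F)) := by rw [← h.rp.rep.ker, MonoidHom.mem_ker, h1]
    obtain ⟨a, ha⟩ := center_scalar hG h2
    have haa : a * a = 1 := by
      have h3 := E_le_O y.2 (one8 F)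
      rw [ha, QuadraticMap.map_smul, norm_one8, smul_eq_mul, mul_one] at h3
      exact h3
    have hpow : ∀ m : ℕ, ∀ v, ((y ^ m : ↥(E (plusForm 4 F))) : V8 F ≃ₗ[F] V8 F) v = a ^ m • v := by
      intro m
      induction m with
      | zero => intro v; rw [pow_zero, pow_zero, one_smul]; rfl
      | succ m ih =>
        intro v
        rw [pow_succ, pow_succ, mul_smul, ← ha v, ← ih]
        rfl
    have hal : a ^ l = 1 := by
      have h3 := hpow l (one8 F)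
      rw [hyl] at h3
      have h4 : (a ^ l - 1) • one8 F = 0 := by rw [sub_smul, one_smul, ← h3]; exact sub_self _
      rcases smul_eq_zero.1 h4 with h5 | h5
      · exact sub_eq_zero.1 h5
      · exfalso
        have h6 := norm_one8 (F := F)
        rw [h5, QuadraticMap.map_zero] at h6
        exact zero_ne_one h6
    have ha1 := eq_one_of_odd haa (hl.odd_of_ne_two hl2) hal
    apply hy1
    apply Subtype.ext
    apply LinearEquiv.ext
    intro v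
    rw [ha, ha1, one_smul]
    rfl
  -- the space `W`
  have hnd : ∀ k, ND (plusForm 4 F) (P k) := fun k => nd_of_aniso (hP.two k) (hP.aniso k)
  have hdis : ∀ v ∈ P 0, ∀ w ∈ P 1, v = w → v = 0 := by
    intro v hv w hw hvw
    apply hnd 0 v hv
    intro u hu
    rw [hvw]
    exact hP.perp 1 0 (by decide) w hw u hu
  have hdis' : ∀ v ∈ P 0, ∀ w ∈ P 1, v + w = 0 → v = 0 ∧ w = 0 := by
    intro v hv w hw hvw
    have h1 : v = -w := eq_neg_of_add_eq_zero_left hvw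
    have h2 := hdis v hv (-w) ((P 1).neg_mem hw) h1
    exact ⟨h2, by rw [h2, zero_add] at hvw; exact hvw⟩
  have hW4 : finrank F ↥(P 0 ⊔ P 1) = 4 := by
    have h1 := Submodule.finrank_sup_add_finrank_inf_eq (P 0) (P 1)
    have h2 : P 0 ⊓ P 1 = ⊥ := by
      rw [Submodule.eq_bot_iff]
      rintro v ⟨hv, hv'⟩
      exact hdis v hv v hv' rfl
    rw [h2, finrank_bot, hP.two, hP.two] at h1
    omega
  have hc0 : ∀ v ∈ P 0, ((ρ 0 * ρ 1 : ↥(E (plusForm 4 F))) : V8 F ≃ₗ[F] V8 F) v = (ρ 0 : V8 F ≃ₗ[F] V8 F) v := by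
    intro v hv
    change (ρ 0 : V8 F ≃ₗ[F] V8 F) ((ρ 1 : V8 F ≃ₗ[F] V8 F) v) = _
    rw [hρ.triv 1 0 (by decide) v hv]
  have hc1 : ∀ v ∈ P 1, ((ρ 0 * ρ 1 : ↥(E (plusForm 4 F))) : V8 F ≃ₗ[F] V8 F) v = (ρ 1 : V8 F ≃ₗ[F] V8 F) v := by
    intro v hv
    change (ρ 0 : V8 F ≃ₗ[F] V8 F) ((ρ 1 : V8 F ≃ₗ[F] V8 F) v) = _
    rw [hρ.triv 0 1 (by decide) _ (hρ.inv 1 v hv)]
  have hspan : ∀ {p' : V8 F → Prop}, (∀ v ∈ P 0, ∀ w ∈ P 1, p' (v + w)) → ∀ v ∈ P 0 ⊔ P 1, p' v := by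
    intro p' hp v hv
    obtain ⟨a, ha, b, hb, rfl⟩ := Submodule.mem_sup.1 hv
    exact hp a ha b hb
  have hE' : ∀ c ∈ E (plusForm 4 F), c ∈ O (plusForm 4 F) := fun c hc => E_le_O hc
  have hrF := natCast_ne h hrp
  refine quad_kill (W := P 0 ⊔ P 1) (c := ρ 0 * ρ 1) (g := gE) (τ := τ) (n := n) hG h.env h.rp.rep hIH h8 h9 hPF hrp y hl hlp hyl hyup
    ?_ hW4 ?_ ?_ ?_ ?_ ?_ ?_ hn ?_
  · intro i
    exact Subtype.ext (hyg i)
  · refine hspan fun v hv w hw hvw => ?_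
    have h1 : v = 0 := by
      apply hnd 0 v hv
      intro u hu
      have h2 := hvw u (Submodule.mem_sup_left hu)
      rw [polar_add_left, hP.perp 1 0 (by decide) w hw u hu, add_zero] at h2
      exact h2
    have h3 : w = 0 := by
      apply hnd 1 w hw
      intro u hu
      have h2 := hvw u (Submodule.mem_sup_right hu)
      rw [polar_add_left, hP.perp 0 1 (by decide) v hv u hu, zero_add] at h2
      exact h2
    rw [h1, h3, add_zero]
  · intro i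
    refine hspan fun v hv w hw => ?_
    change g i (v + w) ∈ _
    rw [map_add]
    exact Submodule.add_mem_sup (hP.inv 0 i v hv) (hP.inv 1 i w hw)
  · intro i
    refine hspan fun v hv w hw => ?_
    obtain ⟨t0, ht0⟩ := hrot 0 i
    obtain ⟨t1, ht1⟩ := hrot 1 i
    change ((ρ 0 * ρ 1 : ↥(E (plusForm 4 F))) : V8 F ≃ₗ[F] V8 F) (g i (v + w)) =
      g i (((ρ 0 * ρ 1 : ↥(E (plusForm 4 F))) : V8 F ≃ₗ[F] V8 F) (v + w))
    rw [map_add, map_add, map_add, map_add, hc0 v hv, hc1 w hw, hc0 _ (hP.inv 0 i v hv), hc1 _ (hP.inv 1 i w hw),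
      hρ.comm 0 t0 (r i) (hrF i) (g i) (hE' _ (h.mem i).1) (h.pow i) (hP.inv 0 i) ht0 v hv,
      hρ.comm 1 t1 (r i) (hrF i) (g i) (hE' _ (h.mem i).1) (h.pow i) (hP.inv 1 i) ht1 w hw]
  · refine hspan fun v hv w hw => ?_
    rw [map_add, hc0 v hv, hc1 w hw]
    exact Submodule.add_mem_sup (hρ.inv 0 v hv) (hρ.inv 1 w hw)
  · refine hspan fun v hv w hw => ?_
    rw [map_add, hc0 v hv, hc1 w hw, map_add, hc0 _ (hρ.inv 0 v hv), hc1 _ (hρ.inv 1 w hw), smul_add, ← hρ.tr 0 v hv,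
      ← hρ.tr 1 w hw]
    abel
  · refine hspan fun v hv w hw a hva => ?_
    rw [map_add, hc0 v hv, hc1 w hw] at hva
    have h1 : ((ρ 0 : V8 F ≃ₗ[F] V8 F) v - a • v) + ((ρ 1 : V8 F ≃ₗ[F] V8 F) w - a • w) = 0 := by
      rw [← sub_eq_zero] at hva
      rw [← hva]
      module
    have h2 := hdis' _ ((P 0).sub_mem (hρ.inv 0 v hv) ((P 0).smul_mem a hv)) _
      ((P 1).sub_mem (hρ.inv 1 w hw) ((P 1).smul_mem a hw)) h1
    rw [hρ.ne 0 v hv a (sub_eq_zero.1 h2.1), hρ.ne 1 w hw a (sub_eq_zero.1 h2.2), add_zero]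
  · intro ω
    rcases h.mv hyD ω with h1 | ⟨i, h1⟩
    · exact Or.inl h1
    · exact Or.inr ⟨i, by rw [← hx]; exact h1⟩

end Cfsg.Agent.H510.Tri3
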