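import Cfsg.Agent.H510.Tri3.RotOdd
import Cfsg.Agent.H452.RC.GThree

/-!
# S3510, triality type iii: four anisotropic planes, modulo the existence of rotations (helper510)
-/

set_option autoImplicit false
set_option linter.unusedSectionVars false
open Cfsg

namespace Cfsg.Agent.H510.Tri3

open Module QuadraticMap MulAction
open Cfsg.Agent.LieClassical.OrthCore Cfsg.Agent.LieClassical.OrthTrans
open Cfsg.Agent.LieClassical.OrthSimple Cfsg.Agent.ClassicalGeometry.OrthSemi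
open Cfsg.Agent.ClassicalGeometry.OrthAut1 Cfsg.Agent.H106.RC Cfsg.Agent.H93.RC Cfsg.Agent.H566.RC
open Cfsg.Agent.LieClassical.QuadForms Cfsg.Agent.ClassicalGeometry.TrialityOct
open Cfsg.Agent.ClassicalGeometry.Triality Cfsg.Agent.ClassicalGeometry.TrialitySpaces
open Cfsg.Agent.H198.TriBase Cfsg.Agent.H198.TriAut Cfsg.Agent.H206.Balance Cfsg.Agent.H198.TriDia
open Cfsg.Agent.H198.TwComp Cfsg.Agent.H198 Cfsg.Agent.H864.RC Cfsg.Agent.H452.RC.FMP

variable {F : Type} [Field F]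

/-- BOX R -/
def RotStmt (F : Type) [Field F] : Prop :=
  ∀ (P : Fin 4 → Submodule F (V8 F)), (∀ k, finrank F (P k) = 2) →
    (∀ k l, k ≠ l → ∀ v ∈ P k, ∀ w ∈ P l, polar (plusForm 4 F) v w = 0) →
    (∀ k, ∀ v ∈ P k, plusForm 4 F v = 0 → v = 0) → ∀ l : ℕ, l.Prime → l ≠ 2 → l ∣ Nat.card F + 1 →
    ∃ (ρ : Fin 4 → ↥(E (plusForm 4 F))) (τ : F), Rot P l τ ρ

variable {G Ω ι : Type} [Group G] [MulAction G Ω] {N : Subgroup G} {hG : Good (plusForm 4 F)}
  {κ : P8 F →* G} {s : F ≃+* F} {x₁ : G} {x : ι → G} {r : ι → ℕ} {g : ι → (V8 F ≃ₗ[F] V8 F)}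

/-- four orthogonal anisotropic planes (the `g i` act as rotations on the planes) -/
theorem dead_G3_mod [Finite F] [Finite G] [Finite ι] [Nonempty Ω] {p : ℕ} [CharP F p] (hR : RotStmt F)
    (h : T3 hG N κ s Ω x₁ x r g) (hIH : IH (Nat.card N)) (hrp : ∀ i, r i ≠ p)
    {P : Fin 4 → Submodule F (V8 F)} (hP : G3 g P)
    (hrot : ∀ k i, ∃ t : F, ∀ v ∈ P k, g i (g i v) + v = t • g i v) : False := by
  obtain ⟨q0, h0, hq, -, -, -⟩ := H256.RC.BQ h.cube h.ne
  obtain ⟨l, hl, hl2, hlq, hlc⟩ := exists_odd_prime h0 hq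
  obtain ⟨ρ, τ, hρ⟩ := hR P hP.two hP.perp hP.aniso l hl hl2 hlq
  have hp : p.Prime := CharP.char_is_prime F p
  have hpq : p ∣ Nat.card F := by
    haveI : Fintype F := Fintype.ofFinite F
    obtain ⟨n, -, hn⟩ := FiniteField.card F p
    rw [Nat.card_eq_fintype_card, hn]
    exact dvd_pow_self p n.ne_zero
  have hlp : l ≠ p := by
    rintro rfl
    exact (hl.coprime_iff_not_dvd.1 hlc) hpq
  have hlF : (l : F) ≠ 0 := by
    intro h1
    have h2 := (CharP.cast_eq_zero_iff F p l).1 h1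
    exact hlp ((Nat.prime_dvd_prime_iff_eq hp hl).1 h2).symm
  obtain ⟨y, hyl, hy1, hyD, hyg, n, hn⟩ :=
    H452.RC.GThree.exists_y h hP (natCast_ne h hrp) hrot hl hl2 hlF hρ
  exact dead_G3_of h hIH hrp hP hrot hl hlp hρ hyl hl2 hy1 hyD hyg n hn

/-- four orthogonal anisotropic planes, `2` is not among the `r i` if the characteristic is odd -/
theorem dead_G3_odd_mod [Finite F] [Finite G] [Finite ι] [Nonempty Ω] {p : ℕ} [CharP F p] (hR : RotStmt F)
    (h : T3 hG N κ s Ω x₁ x r g) (hIH : IH (Nat.card N)) (hrp : ∀ i, r i ≠ p) (h2 : ∀ i, r i = 2 → p = 2)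
    {P : Fin 4 → Submodule F (V8 F)} (hP : G3 g P) : False := by
  refine dead_G3_mod hR h hIH hrp hP fun k i => ?_
  refine rot_of_odd (hP.two k) (hP.aniso k) (E_le_O (h.mem i).1) (hP.inv k i) (h.pow i) ?_
  rcases eq_or_ne (r i) 2 with h3 | h3
  · right
    have h4 := h2 i h3
    subst h4
    exact_mod_cast CharP.cast_eq_zero F 2
  · exact Or.inl ((h.prime i).odd_of_ne_two h3)

end Cfsg.Agent.H510.Tri3
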