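import Cfsg.Agent.H188.RC.BoxA
import Cfsg.Agent.H338.RC.HermC
import Cfsg.Agent.H338.RC.BoxC
import Cfsg.Agent.H452.RC.SUTwo
import Cfsg.Agent.H198.Classes

/-!
# S3510, triality type iii: the M-rule for `SU₂(K)` on a 4-dimensional summand (helper510)

`W` a nondegenerate 4-dimensional subspace of `V` with a hermitian structure over the quadratic extension `K` of `F`,
the lifts of all members of a cover preserve `W` and act `K`-linearly on it; the orders of the members which are not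
`K`-scalar on `W` are pairwise different, no member has order `p`: contradiction.
-/

set_option autoImplicit false
set_option linter.unusedSectionVars false
open Cfsg

namespace Cfsg.Agent.H510.Tri3

open QuadraticMap Module MulAction
open Cfsg.Agent.LieClassical.OrthCore Cfsg.Agent.LieClassical.HermBasic Cfsg.Agent.LieClassical.HermSiegel
open Cfsg.Agent.LieClassical.OrthTrans Cfsg.Agent.ClassicalGeometry.OrthSemi Cfsg.Agent.ClassicalGeometry.OrthAut1
open Cfsg.Agent.H106.RC Cfsg.Agent.H93.RC Cfsg.Agent.H188.RC Cfsg.Agent.GenOrth Cfsg.Agent.H338.RC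

section gen

variable {F V : Type} [Field F] [AddCommGroup V] [Module F V] {Q : QuadraticForm F V} {V' : Type}
  [AddCommGroup V'] [Module F V'] {Q' : QuadraticForm F V'}

theorem ext_mem_O (e : Emb Q Q') {g : V' ≃ₗ[F] V'} (hg : g ∈ O Q') : e.ext g ∈ O Q := by
  intro v
  rw [Emb.ext_apply]
  have h1 : Q (v + e.j (g (e.π v) - e.π v)) = Q v + Q (e.j (g (e.π v) - e.π v)) +
      polar Q v (e.j (g (e.π v) - e.π v)) := by
    rw [polar]; ring
  have h2 : Q' (g (e.π v)) = Q' (g (e.π v) - e.π v) + Q' (e.π v) + polar Q' (g (e.π v) - e.π v) (e.π v) := by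
    have : g (e.π v) = (g (e.π v) - e.π v) + e.π v := by abel
    conv_lhs => rw [this]
    rw [polar]; ring
  rw [h1, e.hQ, QuadraticMap.polar_comm Q v, e.adj]
  have h3 : Q' (g (e.π v)) = Q' (e.π v) := hg _
  rw [h3] at h2
  linear_combination (-e.c) * h2

end gen

section herm

variable {F K V : Type} [Field F] [Finite F] [Field K] [Fintype K] [Algebra F K] [AddCommGroup V] [Module F V]
  [FiniteDimensional F V] {Q : QuadraticForm F V} {W : Submodule F V} [Module K W] [IsScalarTower F K W] {q : ℕ}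
  {G Ω : Type} [Group G] [MulAction G Ω] {N : Subgroup G} {ρ : ↥(E Q) →* G} {m : ℕ}

theorem suW_mem (h : HK (Q.comp W.subtype) K q) (hG : Good Q) {φ : W ≃ₗ[K] (Fin m → K)}
    (hφ : ∀ v w, h.hm v w = hermForm m K q (φ v) (φ w)) (hperf : commutator (SU m K q) = ⊤) (g : SU m K q) :
    (embW h.nondeg).ext (HK.su (F := F) φ g) ∈ E Q := by
  rw [← hG.commutator_eq_E]
  have h1 : g ∈ commutator (SU m K q) := by rw [hperf]; trivial
  have h2 : (embW h.nondeg).ext (HK.su (F := F) φ g) ∈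
      (commutator (SU m K q)).map ((embW h.nondeg).ext.comp (HK.su φ)) := ⟨g, h1, rfl⟩
  rw [commutator_def, Subgroup.map_commutator] at h2
  have h3 : (⊤ : Subgroup (SU m K q)).map ((embW h.nondeg).ext.comp (HK.su (F := F) φ)) ≤ O Q := by
    rintro _ ⟨g, -, rfl⟩
    exact ext_mem_O _ (h.su_mem_O hφ g)
  exact Subgroup.commutator_mono h3 h3 h2

/-- the special unitary group of `W` in `E Q` -/
noncomputable def suW (h : HK (Q.comp W.subtype) K q) (hG : Good Q) {φ : W ≃ₗ[K] (Fin m → K)}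
    (hφ : ∀ v w, h.hm v w = hermForm m K q (φ v) (φ w)) (hperf : commutator (SU m K q) = ⊤) : SU m K q →* ↥(E Q) :=
  ((embW h.nondeg).ext.comp (HK.su φ)).codRestrict (E Q) (suW_mem h hG hφ hperf)

variable (h : HK (Q.comp W.subtype) K q) (hG : Good Q) {φ : W ≃ₗ[K] (Fin m → K)}
  (hφ : ∀ v w, h.hm v w = hermForm m K q (φ v) (φ w)) (hperf : commutator (SU m K q) = ⊤)

theorem suW_coe (g : SU m K q) : ((suW h hG hφ hperf g : ↥(E Q)) : V ≃ₗ[F] V) = (embW h.nondeg).ext (HK.su φ g) := rfl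

theorem suW_inj : Function.Injective (suW h hG hφ hperf) := by
  intro g g' hg
  exact HK.su_inj (F := F) φ ((embW h.nondeg).ext_injective (congrArg Subtype.val hg))

/-- the homomorphism `SU → G` -/
noncomputable def muW (ρ : ↥(E Q) →* G) : SU m K q →* G := ρ.comp (suW h hG hφ hperf)

theorem muW_inj (hρ : Rep Q N ρ) (hWt : W ≠ ⊤) : Function.Injective (muW h hG hφ hperf ρ) := by
  rw [injective_iff_map_eq_one]
  intro s hs
  have h1 : suW h hG hφ hperf s ∈ Subgroup.center ↥(E Q) := by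
    rw [← hρ.ker, MonoidHom.mem_ker]
    exact hs
  obtain ⟨a, ha⟩ := center_scalar hG h1
  obtain ⟨v, hv0, hv⟩ := exists_perp h.nondeg hWt
  have h2 : ((suW h hG hφ hperf s : ↥(E Q)) : V ≃ₗ[F] V) v = v := by
    rw [suW_coe, Emb.ext_of_π_eq_zero _ _ hv]
  have h3 := ha v
  rw [h2] at h3
  have ha1 : a = 1 := by
    have h2 : (a - 1) • v = 0 := by rw [sub_smul, one_smul, ← h3, sub_self]
    rcases smul_eq_zero.mp h2 with h3 | h3
    · exact (sub_eq_zero.mp h3)
    · exact (hv0 h3).elim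
  apply suW_inj h hG hφ hperf
  rw [map_one]
  apply Subtype.ext
  apply LinearEquiv.ext
  intro w
  rw [ha w, ha1, one_smul]
  rfl

theorem muW_le (hρ : Rep Q N ρ) : (muW h hG hφ hperf ρ).range ≤ N := by
  rw [← hρ.range]
  rintro _ ⟨s, rfl⟩
  exact ⟨_, rfl⟩

/-- conjugation in `E Q` -/
theorem conj_suW [FiniteDimensional K W] {M : Gam Q} {L : Gam (Q.comp W.subtype)}
    (hL : ∀ w : W, ((L.1 w : W) : V) = M.1 w) (hlin : ∀ (a : K) (v : W), L.1 (a • v) = a • L.1 v) (s : SU m K q) :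
    ∃ s' : SU m K q, (∀ v : W, L.1 ((HK.su (F := F) φ s) v) = (HK.su (F := F) φ s') (L.1 v)) ∧
      conjE Q M (suW h hG hφ hperf s) = suW h hG hφ hperf s' := by
  have hVf : Finite V := Module.finite_of_finite F
  obtain ⟨σ, c, hM⟩ := M.2
  by_cases hW0 : ∀ w : W, w = 0
  · refine ⟨s, fun v => by rw [hW0 (L.1 _), hW0 ((HK.su (F := F) φ s) (L.1 v))], ?_⟩
    apply Subtype.ext
    rw [coe_conjE]
    ext v
    obtain ⟨v, rfl⟩ := M.1.surjective v
    rw [conjLin_apply', suW_coe, Emb.ext_apply, Emb.ext_apply, hW0 (HK.su φ s _ - _), hW0 (HK.su φ s _ - _), map_zero,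
      add_zero, add_zero]
  push Not at hW0
  obtain ⟨w₀, hw₀⟩ := hW0
  have : Nontrivial W := ⟨⟨w₀, 0, hw₀⟩⟩
  -- the data of `L`
  have hLs : IsSS (Q.comp W.subtype) σ c L.1 := by
    obtain ⟨L', hL', hLM⟩ := exists_restr (W := W) hM (fun v hv => by rw [← hL ⟨v, hv⟩]; exact (L.1 _).2)
    have : L.1 = L' := by
      ext w
      rw [hL, hLM]
    rw [this]
    exact hL'
  have hσ : σ = RingEquiv.refl F := by
    ext a
    have h1 := hlin (algebraMap F K a) w₀
    rw [algebraMap_smul, hLs.smul, algebraMap_smul] at h1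
    have h2 : L.1 w₀ ≠ 0 := by
      intro h0
      rw [← hLs.map_zero] at h0
      exact hw₀ (L.1.injective h0)
    have h3 : (σ a - a) • L.1 w₀ = 0 := by rw [sub_smul, h1, sub_self]
    rcases smul_eq_zero.1 h3 with h4 | h4
    · exact sub_eq_zero.1 h4
    · exact (h2 h4).elim
  subst hσ
  obtain ⟨s', hs'⟩ := h.exists_conj hφ hLs hlin s
  refine ⟨s', hs', ?_⟩
  apply Subtype.ext
  rw [coe_conjE, suW_coe, suW_coe]
  ext v
  obtain ⟨v, rfl⟩ := M.1.surjective v
  rw [conjLin_apply', Emb.ext_apply, Emb.ext_apply, π_restr h.nondeg hM hLs hL, add_of_mem M.2]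
  congr 1
  rw [embW_j, embW_j, ← hL, hLs.sub, hs']

/-- conjugation in `G` -/
theorem conj_muW [FiniteDimensional K W] {x : G} {M : Gam Q} {L : Gam (Q.comp W.subtype)} (hl : Lf ρ x M)
    (hL : ∀ w : W, ((L.1 w : W) : V) = M.1 w) (hlin : ∀ (a : K) (v : W), L.1 (a • v) = a • L.1 v) (s : SU m K q) :
    ∃ s' : SU m K q, (∀ v : W, L.1 ((HK.su (F := F) φ s) v) = (HK.su (F := F) φ s') (L.1 v)) ∧
      x * muW h hG hφ hperf ρ s * x⁻¹ = muW h hG hφ hperf ρ s' := by
  obtain ⟨s', h1, h2⟩ := conj_suW h hG hφ hperf hL hlin s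
  refine ⟨s', h1, ?_⟩
  change x * ρ _ * x⁻¹ = ρ _
  rw [hl, h2]

/-- `K`-scalar members centralise `M` -/
theorem cent_of_scal [FiniteDimensional K W] {x : G} {M : Gam Q} {L : Gam (Q.comp W.subtype)} (hl : Lf ρ x M)
    (hL : ∀ w : W, ((L.1 w : W) : V) = M.1 w) {a : K} (ha : ∀ v : W, L.1 v = a • v) (m' : G)
    (hm : m' ∈ (muW h hG hφ hperf ρ).range) : x * m' = m' * x := by
  obtain ⟨s, rfl⟩ := hm
  obtain ⟨s', h1, h2⟩ := conj_muW (ρ := ρ) h hG hφ hperf hl hL (fun b v => by rw [ha, ha, smul_comm]) s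
  have h3 : s = s' := by
    apply HK.su_inj (F := F) φ
    ext w
    obtain ⟨v, rfl⟩ := L.1.surjective w
    rw [← h1, ha, ha, HK.su_smul]
  rw [← h3, mul_inv_eq_iff_eq_mul] at h2
  exact h2

/-! ### transvections -/

theorem singW {e : W} (he : Q.comp W.subtype e = 0) : Q.comp W.subtype (h.th • e) = 0 := by
  apply (algebraMap F K).injective
  rw [h.form, he, map_zero, mul_zero]

theorem polarW {e : W} (he : Q.comp W.subtype e = 0) : polar (Q.comp W.subtype) e (h.th • e) = 0 := by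
  apply (algebraMap F K).injective
  rw [← h.hm_trace, h.hm_smul_right, h.hm_self, he, map_zero, mul_zero, zero_pow h.q_ne, add_zero]

/-- the unitary transvection with centre `e` -/
theorem exists_tvW {e : W} (he : Q.comp W.subtype e = 0) : ∃ s : SU m K q,
    (∀ v, (HK.su (F := F) φ s) v = v + ((h.th - h.th ^ q) * h.hm v e) • e) ∧
      suW h hG hφ hperf s = AutOrth.SemiSim.sg Q (e : V) ((h.th • e : W) : V) he (polarW h he) := by
  have hs : IsSiegel q (φ e) 0 (h.th - h.th ^ q) := by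
    refine ⟨?_, ?_, ?_⟩
    · rw [← hφ, h.hm_self, he, map_zero]
    · rw [herm_zero_left]
    · rw [herm_zero_left, sub_pow_q h.card, pow_q_pow_q h.card]
      ring
  have h1 : ∀ v, (HK.su (F := F) φ (Cfsg.Agent.LieClassical.HermSiegel.siegel h.card (φ e) 0 (h.th - h.th ^ q) hs)) v =
      v + ((h.th - h.th ^ q) * h.hm v e) • e := by
    intro v
    apply φ.injective
    rw [HK.phi_su, act_siegel, ← hφ, smul_zero, add_zero, herm_zero_right h.card, sub_zero, map_add, map_smul]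
  refine ⟨_, h1, ?_⟩
  have h2 : HK.su (F := F) φ (Cfsg.Agent.LieClassical.HermSiegel.siegel h.card (φ e) 0 (h.th - h.th ^ q) hs) =
      LieClassical.OrthCore.siegel (Q.comp W.subtype) e (h.th • e) he (polarW h he) := by
    ext v
    rw [h1, siegel_apply, singW h he, zero_mul, zero_smul, sub_zero, add_sub_assoc]
    congr 2
    have h2 : algebraMap F K (polar (Q.comp W.subtype) e v) = h.hm v e + (h.hm v e) ^ q := by
      rw [QuadraticMap.polar_comm, h.hm_trace]
    have h3 : algebraMap F K (polar (Q.comp W.subtype) (h.th • e) v) = h.th * (h.hm v e) ^ q + h.th ^ q * h.hm v e := by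
      rw [← h.hm_trace, h.hm_smul_left, h.hm_symm v e, mul_pow, pow_q_pow_q h.card]
    rw [← algebraMap_smul K (polar (Q.comp W.subtype) e v), ← algebraMap_smul K (polar (Q.comp W.subtype) (h.th • e) v),
      h2, h3, smul_smul, ← sub_smul]
    congr 1
    ring
  apply Subtype.ext
  rw [suW_coe, h2]
  have h4 : polar Q ((embW h.nondeg).j e) ((embW h.nondeg).c⁻¹ • (embW h.nondeg).j (h.th • e)) = 0 := by
    rw [embW_c, inv_one, one_smul]; exact polarW h he
  have he' : Q (e : V) = 0 := he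
  have hp' : polar Q (e : V) ((h.th • e : W) : V) = 0 := polarW h he
  refine ((embW h.nondeg).ext_siegel he (polarW h he) he h4).trans ?_
  exact LieClassical.OrthSimple.siegel_congr (Q := Q) he' h4 he' hp' rfl (by rw [embW_c, inv_one, one_smul]; rfl)

/-- a lift of an element centralising the image of `SU` fixes the `K`-lines of the singular vectors of `W` -/
theorem eigW [FiniteDimensional K W] {x : G} {M : Gam Q} {L : Gam (Q.comp W.subtype)} (hρ : Rep Q N ρ) (hWt : W ≠ ⊤)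
    (hl : Lf ρ x M) (hL : ∀ w : W, ((L.1 w : W) : V) = M.1 w) (hlin : ∀ (a : K) (v : W), L.1 (a • v) = a • L.1 v)
    (hcen : ∀ y ∈ (muW h hG hφ hperf ρ).range, x * y = y * x) {e : W} (he : Q.comp W.subtype e = 0) (he0 : e ≠ 0) :
    ∃ a : K, L.1 e = a • e := by
  obtain ⟨s, hs, -⟩ := exists_tvW h hG hφ hperf he
  have hth : h.th - h.th ^ q ≠ 0 := h.sub_ne
  obtain ⟨s', h1, h2⟩ := conj_muW (ρ := ρ) h hG hφ hperf hl hL hlin s
  have h3 := hcen _ ⟨s, rfl⟩
  rw [h3, mul_inv_cancel_right] at h2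
  have h4 : s = s' := muW_inj h hG hφ hperf hρ hWt h2
  rw [← h4] at h1
  obtain ⟨w, hw⟩ : ∃ w, h.hm w e ≠ 0 := by
    by_contra hcon
    push Not at hcon
    apply he0
    apply h.nondeg
    intro w
    apply (algebraMap F K).injective
    rw [QuadraticMap.polar_comm, ← h.hm_trace, hcon, zero_pow h.q_ne, add_zero, map_zero]
  have h5 := h1 w
  have hadd : L.1 (w + ((h.th - h.th ^ q) * h.hm w e) • e) = L.1 w + ((h.th - h.th ^ q) * h.hm w e) • L.1 e := by
    rw [add_of_mem L.2, hlin]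
  rw [hs, hs, hadd, add_right_inj] at h5
  refine ⟨((h.th - h.th ^ q) * h.hm w e)⁻¹ * ((h.th - h.th ^ q) * h.hm (L.1 w) e), ?_⟩
  rw [mul_smul, ← h5, inv_smul_smul₀ (mul_ne_zero hth hw)]

end herm

section box

variable {F K V : Type} [Field F] [Finite F] [Field K] [Fintype K] [Algebra F K] [AddCommGroup V] [Module F V]
  [FiniteDimensional F V] {Q : QuadraticForm F V} {W : Submodule F V} [Module K W] [IsScalarTower F K W] {q : ℕ}
  {G Ω : Type} [Group G] [Finite G] [MulAction G Ω] [Nonempty Ω] {N : Subgroup G} {ρ : ↥(E Q) →* G}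

theorem exc_congr {S S' : Type*} [Group S] [Group S'] (e : S ≃* S') (h : Exc S) : Exc S' := by
  rcases h with h | h | h <;> obtain ⟨f⟩ := h
  · exact Or.inl ⟨e.symm.trans f⟩
  · exact Or.inr (Or.inl ⟨e.symm.trans f⟩)
  · exact Or.inr (Or.inr ⟨e.symm.trans f⟩)

theorem psu_two_not_exc {K : Type} [Field K] [Fintype K] {q : ℕ} (hK : Fintype.card K = q ^ 2) (h7 : 7 ≤ q) (h9 : q ≠ 9) :
    ¬ Exc (PSU 2 K q) ∧ Cl (PSU 2 K q) := by
  obtain ⟨K', _, _, hK'⟩ := H452.RC.exists_field hK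
  obtain ⟨e⟩ := H452.RC.psu_psl hK hK'
  refine ⟨fun h => ?_, Or.inl ⟨K', inferInstance, inferInstance, 2, le_rfl, fun _ => by omega, ⟨e⟩⟩⟩
  rcases psl_exc (F := K') le_rfl (exc_congr e h) with ⟨-, h1⟩ | ⟨h1, -⟩ <;> omega

/-- the image of `SU` is not everything -/
theorem muW_ne (h : HK (Q.comp W.subtype) K q) (hG : Good Q) {m : ℕ} {φ : W ≃ₗ[K] (Fin m → K)}
    (hφ : ∀ v w, h.hm v w = hermForm m K q (φ v) (φ w)) (hperf : commutator (SU m K q) = ⊤) (hρ : Rep Q N ρ)
    (hWt : W ≠ ⊤) (hW0 : ∃ w : W, w ≠ 0) : (muW h hG hφ hperf ρ).range ≠ N := by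
  intro hN
  have hth0 : h.th ≠ 0 := by
    intro h0
    apply h.th_ne
    rw [h0, zero_pow h.q_ne]
  have hthq : h.th ^ q ≠ 0 := pow_ne_zero _ hth0
  set ζ : K := h.th / h.th ^ q with hζ
  have hζ0 : ζ ≠ 0 := div_ne_zero hth0 hthq
  have hζn : ζ * ζ ^ q = 1 := by
    rw [hζ, div_pow, pow_q_pow_q h.card]
    field_simp
  have hζ1 : ζ ≠ 1 := by
    intro h1
    apply h.th_ne
    rw [hζ, div_eq_one_iff_eq hthq] at h1
    exact h1.symm
  let z : W ≃ₗ[F] W := (LinearEquiv.smulOfNeZero K W ζ hζ0).restrictScalars F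
  have hz : ∀ w, z w = ζ • w := fun w => rfl
  have hzO : z ∈ O (Q.comp W.subtype) := by
    intro w
    apply (algebraMap F K).injective
    rw [hz, h.form, hζn, one_mul]
  have hTO := ext_mem_O (embW h.nondeg) hzO
  set T : Gam Q := H198.Classes.gamO Q ⟨(embW h.nondeg).ext z, hTO⟩ with hT
  have hTa : ∀ v, T.1 v = (embW h.nondeg).ext z v := fun v => rfl
  have h1 : conjE Q T = 1 := by
    ext t : 1
    rw [MulAut.one_apply]
    have h2 : ρ t ∈ (muW h hG hφ hperf ρ).range := by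
      rw [hN, ← hρ.range]
      exact ⟨t, rfl⟩
    obtain ⟨s, hs⟩ := h2
    change ρ (suW h hG hφ hperf s) = ρ t at hs
    have h3 : t * (suW h hG hφ hperf s)⁻¹ ∈ Subgroup.center ↥(E Q) := by
      rw [← hρ.ker, MonoidHom.mem_ker, map_mul, map_inv, hs, mul_inv_cancel]
    obtain ⟨a, ha⟩ := center_scalar hG h3
    have h4 : ∀ v, (t : V ≃ₗ[F] V) v = a • ((suW h hG hφ hperf s : ↥(E Q)) : V ≃ₗ[F] V) v := by
      intro v
      have h5 := ha (((suW h hG hφ hperf s : ↥(E Q)) : V ≃ₗ[F] V) v)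
      rw [← h5]
      have h6 : (t * (suW h hG hφ hperf s)⁻¹ : ↥(E Q)) * suW h hG hφ hperf s = t := by group
      conv_lhs => rw [← h6]
      rfl
    apply Subtype.ext
    rw [coe_conjE]
    ext v
    obtain ⟨v, rfl⟩ := T.1.surjective v
    rw [conjLin_apply', h4, h4, suW_coe, hTa, hTa, map_smul]
    congr 1
    have h7 : HK.su (F := F) φ s * z = z * HK.su (F := F) φ s := by
      apply LinearEquiv.ext
      intro w
      change (HK.su (F := F) φ s) (ζ • w) = ζ • (HK.su (F := F) φ s) w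
      rw [HK.su_smul]
    have h8 : (embW h.nondeg).ext (HK.su (F := F) φ s) * (embW h.nondeg).ext z =
        (embW h.nondeg).ext z * (embW h.nondeg).ext (HK.su (F := F) φ s) := by rw [← map_mul, h7, map_mul]
    exact (congrArg (fun f : V ≃ₗ[F] V => f v) h8).symm
  obtain ⟨a, -, ha⟩ := exists_scalar_of_conjE hG T h1
  obtain ⟨v, hv0, hv⟩ := exists_perp h.nondeg hWt
  have h2 := ha v
  rw [hTa, Emb.ext_of_π_eq_zero _ _ hv] at h2
  have ha1 : a = 1 := by
    have h2 : (a - 1) • v = 0 := by rw [sub_smul, one_smul, ← h2, sub_self]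
    rcases smul_eq_zero.mp h2 with h3 | h3
    · exact (sub_eq_zero.mp h3)
    · exact (hv0 h3).elim
  obtain ⟨w, hw0⟩ := hW0
  have h3 := ha ((embW h.nondeg).j w)
  rw [hTa, Emb.ext_j, ha1, one_smul] at h3
  have h4 := (embW h.nondeg).j_injective h3
  rw [hz] at h4
  have h5 : (ζ - 1) • w = 0 := by rw [sub_smul, one_smul, h4, sub_self]
  rcases smul_eq_zero.1 h5 with h6 | h6
  · exact hζ1 (sub_eq_zero.1 h6)
  · exact hw0 h6

/-- **The M-rule for `SU₂(K)`** on a 4-dimensional summand `W`, with the end game. -/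
theorem box_SU2 (h : HK (Q.comp W.subtype) K q) (hG : Good Q) (hE : Env G Ω N) (hρ : Rep Q N ρ)
    (hIH : IH (Nat.card N)) {p : ℕ} [CharP F p] {ι : Type} [Finite ι] {x : ι → G} {M : ι → Gam Q} {r : ι → ℕ}
    (hl : ∀ i, Lf ρ (x i) (M i)) (hr : ∀ i, (r i).Prime) (hrp : ∀ i, r i ≠ p) (hx : ∀ i, x i ^ r i = 1)
    (hx1 : ∀ i, x i ≠ 1) (hc : ∀ i j, x i * x j = x j * x i) (hcov : Cov Ω x)
    (h7 : 7 ≤ q) (h9 : q ≠ 9) (hFK : finrank F K = 2) (h2 : finrank K W = 2) (h5 : 5 ≤ finrank F V)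
    (L : ι → Gam (Q.comp W.subtype)) (hL : ∀ i (w : W), (((L i).1 w : W) : V) = (M i).1 w)
    (hlin : ∀ i (a : K) (v : W), (L i).1 (a • v) = a • (L i).1 v)
    (hinj : ∀ i j, r i = r j → i = j ∨ (∃ a : K, ∀ v : W, (L i).1 v = a • v) ∨ ∃ a : K, ∀ v : W, (L j).1 v = a • v) :
    False := by
  classical
  have hKW : FiniteDimensional K W := Module.finite_of_finrank_pos (by omega)
  obtain ⟨φ, hφ⟩ : ∃ φ : W ≃ₗ[K] (Fin 2 → K), ∀ v w, h.hm v w = hermForm 2 K q (φ v) (φ w) := by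
    have h3 := h.exists_phi
    rw [h2] at h3
    exact h3
  have hperf : commutator (SU 2 K q) = ⊤ := H452.RC.comm_two h.card (by omega)
  have hS : IsSimpleGroup (PSU 2 K q) := H452.RC.simple_two h.card (by omega)
  have hSn : ¬ IsMulCommutative (PSU 2 K q) := H452.RC.nc_two h.card (by omega)
  have h4 : finrank F W = 4 := by
    rw [← Module.finrank_mul_finrank F K W, hFK, h2]
  obtain ⟨w₀, hw₀⟩ : ∃ w : W, w ≠ 0 := by
    have : Nontrivial W := Module.nontrivial_of_finrank_pos (R := F) (by omega)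
    exact exists_ne 0
  have hWt : W ≠ ⊤ := by
    intro ht
    rw [ht, finrank_top] at h4
    omega
  set μ := muW h hG hφ hperf ρ with hμ
  have hμi := muW_inj h hG hφ hperf hρ hWt
  obtain ⟨hMp, π, hπ, hπk⟩ := exists_pi_gen hperf μ (by rw [(MonoidHom.ker_eq_bot_iff _).2 hμi]; exact bot_le)
  have hnorm : ∀ i, x i ∈ Subgroup.normalizer (μ.range : Set G) := by
    intro i
    refine mem_norm_pow' (hr i).pos (hx i) ?_
    rintro _ ⟨s, rfl⟩
    obtain ⟨s', -, h3⟩ := conj_muW (ρ := ρ) h hG hφ hperf (hl i) (hL i) (hlin i) s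
    exact ⟨s', h3.symm⟩
  have hRC : RC (PSU 2 K q) := by
    have hex := psu_two_not_exc h.card h7 h9
    exact hIH.use (S := N) (MulEquiv.refl N) (muW_le h hG hφ hperf hρ)
      (muW_ne h hG hφ hperf hρ hWt ⟨w₀, hw₀⟩) π hπ hS hSn hex.2 hex.1
  -- the rule
  have hrule : ∀ ω : Ω, μ.range ≤ stabilizer G ω ∨ ∃ j, (∀ m ∈ μ.range, x j * m = m * x j) ∧ x j • ω = ω := by
    intro ω
    by_cases hω : ∃ j, (∀ m ∈ μ.range, x j * m = m * x j) ∧ x j • ω = ω
    · exact Or.inr hω
    left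
    push Not at hω
    let S : Set ι := {i | ¬ ∀ m ∈ μ.range, x i * m = m * x i}
    have hcovS : ∀ m ∈ μ.range, ∃ i : S, x i • m • ω = m • ω := by
      intro m hm
      obtain ⟨i, hi⟩ := hcov (m • ω)
      by_cases hs : ∀ m ∈ μ.range, x i * m = m * x i
      · exfalso
        apply hω i hs
        rw [← mul_smul, hs m hm, mul_smul] at hi
        exact smul_left_cancel m hi
      · exact ⟨⟨i, hs⟩, hi⟩
    have hinjS : Function.Injective (fun i : S => r i) := by
      intro i j hij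
      rcases hinj i j hij with h3 | ⟨a, ha⟩ | ⟨a, ha⟩
      · exact Subtype.ext h3
      · exact (i.2 fun m hm => cent_of_scal h hG hφ hperf (hl i) (hL i) ha m hm).elim
      · exact (j.2 fun m hm => cent_of_scal h hG hφ hperf (hl j) (hL j) ha m hm).elim
    rcases mrule_RC hS hSn (fun i : S => x i) (fun i : S => r i) (fun i => hr i) hinjS (fun i => hx i)
      (fun i j => hc i j) μ.range hMp π hπ hπk (fun i => hnorm i) hRC ω hcovS with h3 | ⟨j, hj, -⟩
    · exact h3
    · exact (j.2 hj).elim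
  -- a singular vector
  obtain ⟨e, he, he0⟩ : ∃ e : W, Q.comp W.subtype e = 0 ∧ e ≠ 0 := by
    obtain ⟨w, hw, hw0, hws⟩ := LieClassical.OrthFinite.exists_sing_mem (Q := Q) W (by omega)
    exact ⟨⟨w, hw⟩, hws, fun h0 => hw0 (congrArg Subtype.val h0)⟩
  obtain ⟨s, hs, hs'⟩ := exists_tvW h hG hφ hperf he
  refine H297.RC.box_LR (ι := {j : ι // ∀ m ∈ μ.range, x j * m = m * x j}) (y := fun j => x j) (M := fun j => M j)
    (r := fun j => r j) hG hE hρ (p := p) (fun j => hl j) (fun j => hr j) (fun j => hrp j) (fun j => hx j)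
    (fun j => hx1 j) (fun i j => hc i j) (u := (e : V)) (w := ((h.th • e : W) : V)) he (singW h he) (polarW h he)
    (fun h0 => he0 (Subtype.ext h0)) ?_ ?_ ?_
  · intro a ha
    have h3 : h.th • e = a • e := Subtype.ext ha
    rw [← algebraMap_smul K a, ← sub_eq_zero, ← sub_smul] at h3
    rcases smul_eq_zero.1 h3 with h4 | h4
    · apply h.th_ne
      rw [sub_eq_zero.1 h4, h.base]
    · exact he0 h4
  · rintro ⟨j, hj⟩ v hv
    have hmem : ∀ a : K, ((a • e : W) : V) ∈ Submodule.span F {(e : V), ((h.th • e : W) : V)} := by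
      intro a
      obtain ⟨c, d, rfl⟩ := h.decomp a
      rw [add_smul, mul_smul, algebraMap_smul, algebraMap_smul]
      exact Submodule.add_mem _ (Submodule.smul_mem _ _ (Submodule.subset_span (by simp)))
        (Submodule.smul_mem _ _ (Submodule.subset_span (by simp)))
    obtain ⟨a, ha⟩ := eigW h hG hφ hperf hρ hWt (hl j) (hL j) (hlin j) hj he he0
    obtain ⟨b, c, rfl⟩ := Submodule.mem_span_pair.1 hv
    have h3 : b • (e : V) + c • ((h.th • e : W) : V) = (((algebraMap F K b + algebraMap F K c * h.th) • e : W) : V) := by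
      rw [add_smul, mul_smul, algebraMap_smul, algebraMap_smul]
      rfl
    rw [h3, ← hL, hlin, ha, smul_smul]
    exact hmem _
  · intro ω
    rcases hrule ω with h3 | ⟨j, hj, h3⟩
    · left
      rw [← hs']
      exact h3 ⟨s, rfl⟩
    · exact Or.inr ⟨⟨j, hj⟩, h3⟩

end box

end Cfsg.Agent.H510.Tri3
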